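import Mathlib

/-!
Order of an inertia group with separable residue extension; finite groups of roots of unity.
-/

open scoped Pointwise

namespace Groth.Agent.Inertia7

section

variable {R S G : Type*} [CommRing R] [CommRing S] [Algebra R S] [Group G] [MulSemiringAction G S]
  [IsGaloisGroup G R S] [Finite G] [IsDomain R] [IsDomain S] [Module.Finite R S] [Module.Flat R S]
  (p : Ideal R) (P : Ideal S) [P.LiesOver p] [p.IsMaximal] [P.IsMaximal]
  [Algebra.IsSeparable (R ⧸ p) (S ⧸ P)]

include p in
/-- the inertia group has order the ramification index if the residue extension is separable -/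
theorem card_inertia_eq :
    Nat.card (P.inertia G) = Ideal.ramificationIdx P R := by
  let : Field (R ⧸ p) := Ideal.Quotient.field p
  let : Field (S ⧸ P) := Ideal.Quotient.field P
  have : Normal (R ⧸ p) (S ⧸ P) := Ideal.Quotient.normal G p P
  have : IsGalois (R ⧸ p) (S ⧸ P) := ⟨⟩
  have : Module.Finite (R ⧸ p) (S ⧸ P) := Ideal.Quotient.finite_of_isInvariant G p P
  have hstab : Nat.card (MulAction.stabilizer G P) = Nat.card (P.inertia G) * P.inertiaDeg R := by
    have : Subgroup.index _ = _ := Nat.card_congr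
      (Ideal.Quotient.stabilizerQuotientInertiaEquiv G p P).toEquiv
    rw [Ideal.inertiaDeg_eq_of_isMaximal p P, ← IsGalois.card_aut_eq_finrank (R ⧸ p) (S ⧸ P), ← this,
      ← ((P.inertia G).subgroupOf (MulAction.stabilizer G P)).card_mul_index,
      Nat.card_congr (Subgroup.subgroupOfEquivOfLe (Ideal.inertia_le_stabilizer (M := G) P)).toEquiv,
      AddSubgroup.subgroupOf_inertia]
  have H : (p.primesOver S).ncard * Nat.card (P.inertia G) * P.inertiaDeg R = Nat.card G := by
    rw [mul_assoc, ← hstab, ← Algebra.IsInvariant.orbit_eq_primesOver R S G p P]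
    simpa using Nat.card_congr (MulAction.orbitProdStabilizerEquivGroup G P)
  rw [← Ideal.inertiaDegIn_eq_inertiaDeg p P G] at H
  have h1 : (p.primesOver S).ncard ≠ 0 := by grind [Nat.card_pos]
  have h2 : p.inertiaDegIn S ≠ 0 := by grind [Nat.card_pos]
  rw [← Ideal.ncard_primesOver_mul_ramificationIdxIn_mul_inertiaDegIn p S G,
    mul_assoc, mul_right_inj' h1, mul_left_inj' h2] at H
  rw [H, Ideal.ramificationIdxIn_eq_ramificationIdx p P G]

end

section

variable {H k : Type*} [Group H] [Finite H] [Field k] (N : Subgroup H) [N.Normal] (f : H →* k)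
  (hker : f.ker = N)

include hker

omit [Finite H] in
theorem exists_injective_lift : ∃ φ : H ⧸ N →* k, Function.Injective φ :=
  ⟨QuotientGroup.lift N f hker.ge, (injective_iff_map_eq_one _).2 fun q =>
    QuotientGroup.induction_on q fun h hh => (QuotientGroup.eq_one_iff h).2 (by
      rw [← hker, MonoidHom.mem_ker]; exact hh)⟩

theorem isCyclic_quotient : IsCyclic (H ⧸ N) := by
  obtain ⟨φ, hφ⟩ := exists_injective_lift N f hker
  exact isCyclic_of_injective_ringHom φ hφ

/-- if the kernel is a `p`-group, the quotient is the group of `e`-th roots of unity, `e = card H` -/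
theorem quotient_structure_charP (p : ℕ) [hp : Fact p.Prime] [CharP k p] (hN : IsPGroup p N) :
    Nat.card (H ⧸ N) = Nat.card H / p ^ (Nat.card H).factorization p ∧
      Nonempty (H ⧸ N ≃* rootsOfUnity (Nat.card H) k) := by
  obtain ⟨a, ha⟩ := IsPGroup.iff_card.1 hN
  set c := Nat.card (H ⧸ N)
  have hcard : Nat.card H = c * p ^ a := by rw [Subgroup.card_eq_card_quotient_mul_card_subgroup N, ha]
  have hc0 : c ≠ 0 := Nat.card_pos.ne'
  obtain ⟨φ, hφ⟩ := exists_injective_lift N f hker
  have hpc : ¬ p ∣ c := by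
    intro hdvd
    obtain ⟨q, hq⟩ := exists_prime_orderOf_dvd_card' p hdvd
    have h1 : φ q ^ p = 1 := by rw [← map_pow, ← hq, pow_orderOf_eq_one, map_one]
    have h2 : φ q = 1 := by
      simpa using (ExpChar.pow_prime_pow_mul_eq_one_iff (R := k) p 1 1 (φ q)).1 (by simpa using h1)
    rw [hφ (h2.trans (map_one φ).symm), orderOf_one] at hq
    exact hp.out.ne_one hq.symm
  have hfac : (Nat.card H).factorization p = a := by
    rw [hcard, Nat.factorization_mul hc0 (pow_ne_zero _ hp.out.ne_zero), Finsupp.add_apply,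
      Nat.factorization_eq_zero_of_not_dvd hpc, zero_add, hp.out.factorization_pow, Finsupp.single_eq_same]
  refine ⟨by rw [hfac, hcard, Nat.mul_div_cancel _ (pow_pos hp.out.pos _)], ?_⟩
  have hmem : ∀ q : H ⧸ N, φ.toHomUnits q ∈ rootsOfUnity (Nat.card H) k := fun q => by
    rw [mem_rootsOfUnity, ← map_pow, hcard, pow_mul, pow_card_eq_one', one_pow, map_one]
  let ψ : H ⧸ N →* rootsOfUnity (Nat.card H) k := φ.toHomUnits.codRestrict _ hmem
  have hψ : Function.Injective ψ := fun x y h =>
    hφ (congrArg (fun z : rootsOfUnity (Nat.card H) k => ((z : kˣ) : k)) h)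
  have : NeZero c := ⟨hc0⟩
  have hle : Nat.card (rootsOfUnity (Nat.card H) k) ≤ c := by
    have e : rootsOfUnity (Nat.card H) k = rootsOfUnity c k := by
      ext x
      rw [mem_rootsOfUnity', mem_rootsOfUnity', hcard, mul_comm, ExpChar.pow_prime_pow_mul_eq_one_iff]
    rw [e]
    exact card_rootsOfUnity k c
  have : NeZero (Nat.card H) := ⟨Nat.card_pos.ne'⟩
  exact ⟨MulEquiv.ofBijective ψ ((Nat.bijective_iff_injective_and_card ψ).2
    ⟨hψ, le_antisymm (Nat.card_le_card_of_injective ψ hψ) hle⟩)⟩

theorem quotient_structure_bot (hN : N = ⊥) :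
    Nat.card (H ⧸ N) = Nat.card H ∧ Nonempty (H ⧸ N ≃* rootsOfUnity (Nat.card H) k) := by
  have hcard : Nat.card (H ⧸ N) = Nat.card H := by
    rw [Subgroup.card_eq_card_quotient_mul_card_subgroup N, hN, Subgroup.card_bot, mul_one]
  refine ⟨hcard, ?_⟩
  obtain ⟨φ, hφ⟩ := exists_injective_lift N f hker
  have hmem : ∀ q : H ⧸ N, φ.toHomUnits q ∈ rootsOfUnity (Nat.card H) k := fun q => by
    rw [mem_rootsOfUnity, ← map_pow, ← hcard, pow_card_eq_one', map_one]
  let ψ : H ⧸ N →* rootsOfUnity (Nat.card H) k := φ.toHomUnits.codRestrict _ hmem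
  have hψ : Function.Injective ψ := fun x y h =>
    hφ (congrArg (fun z : rootsOfUnity (Nat.card H) k => ((z : kˣ) : k)) h)
  have : NeZero (Nat.card H) := ⟨Nat.card_pos.ne'⟩
  have hle : Nat.card (rootsOfUnity (Nat.card H) k) ≤ Nat.card (H ⧸ N) := by
    rw [hcard]
    exact card_rootsOfUnity k (Nat.card H)
  exact ⟨MulEquiv.ofBijective ψ ((Nat.bijective_iff_injective_and_card ψ).2
    ⟨hψ, le_antisymm (Nat.card_le_card_of_injective ψ hψ) hle⟩)⟩

end

end Groth.Agent.Inertia7
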