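import Mathlib

/-!
The tame character of an inertia group and the wild inertia subgroup.
-/

open Polynomial

namespace Groth.Agent.Inertia7

set_option linter.unusedSectionVars false

variable {B G : Type*} [CommRing B] [Group G] [MulSemiringAction G B] {m : Ideal B} {σ : G}

theorem mem_inertia {I : Ideal B} : σ ∈ I.inertia G ↔ ∀ x : B, σ • x - x ∈ I := Iff.rfl

theorem inertia_mono {I J : Ideal B} (h : I ≤ J) : I.inertia G ≤ J.inertia G := fun _ hσ x => h (hσ x)

theorem inertia_sq_le : (m ^ 2).inertia G ≤ m.inertia G := inertia_mono (Ideal.pow_le_self two_ne_zero)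

theorem smul_mem_of_mem_inertia (hσ : σ ∈ m.inertia G) {x : B} (hx : x ∈ m) : σ • x ∈ m := by
  rw [← sub_add_cancel (σ • x) x]
  exact add_mem (hσ x) hx

open scoped Pointwise in
theorem smul_mem_pow_of_mem_stabilizer (hσ : σ ∈ MulAction.stabilizer G m) {n : ℕ} {x : B} (hx : x ∈ m ^ n) :
    σ • x ∈ m ^ n := by
  have h : σ • x ∈ σ • (m ^ n) := Ideal.smul_mem_pointwise_smul σ x _ hx
  rw [smul_pow'] at h
  rwa [MulAction.mem_stabilizer_iff.1 hσ] at h

open scoped Pointwise in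
theorem normal_subgroupOf_stabilizer :
    (((MulAction.stabilizer G m) ⊓ (m ^ 2).inertia G).subgroupOf (MulAction.stabilizer G m)).Normal := by
  constructor
  intro g hg d
  rw [Subgroup.mem_subgroupOf, Subgroup.mem_inf] at hg ⊢
  refine ⟨(d * g * d⁻¹).2, fun x => ?_⟩
  have h := smul_mem_pow_of_mem_stabilizer d.2 (hg.2 ((d⁻¹ : MulAction.stabilizer G m).1 • x))
  simp only [smul_sub, ← mul_smul, InvMemClass.coe_inv, mul_inv_cancel, one_smul] at h
  simpa [mul_assoc] using h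

/-- wild inertia moves `m ^ n` only in `m ^ (n + 1)` -/
theorem sub_mem_pow (hσ : σ ∈ (m ^ 2).inertia G) {n : ℕ} : ∀ {y : B}, y ∈ m ^ n → σ • y - y ∈ m ^ (n + 1) := by
  induction n with
  | zero => intro y _; exact Ideal.pow_le_pow_right (by omega) (hσ y)
  | succ n ih =>
    intro y hy
    rw [pow_succ] at hy
    induction hy using Submodule.mul_induction_on' with
    | mem_mul_mem a ha b hb =>
      have e : σ • (a * b) - a * b = (σ • a - a) * σ • b + a * (σ • b - b) := by rw [smul_mul']; ring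
      rw [e]
      refine add_mem ?_ ?_
      · rw [pow_succ m (n + 1)]
        exact Ideal.mul_mem_mul (ih ha) (smul_mem_of_mem_inertia (inertia_sq_le hσ) hb)
      · rw [show n + 1 + 1 = n + 2 from rfl, pow_add]
        exact Ideal.mul_mem_mul ha (hσ b)
    | add a ha b hb iha ihb =>
      rw [smul_add, add_sub_add_comm]
      exact add_mem iha ihb

theorem pow_smul_sub (hσ : σ ∈ (m ^ 2).inertia G) {n : ℕ} {x : B} (hx : σ • x - x ∈ m ^ n) (k : ℕ) :
    σ ^ k • x - x - (k : B) * (σ • x - x) ∈ m ^ (n + 1) := by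
  induction k with
  | zero => simp
  | succ k ih =>
    have h1 : σ ^ (k + 1) • x - x - ((k + 1 : ℕ) : B) * (σ • x - x) =
        (σ • (σ ^ k • x - x) - (σ ^ k • x - x)) + (σ ^ k • x - x - (k : B) * (σ • x - x)) := by
      rw [pow_succ', mul_smul, smul_sub]; push_cast; ring
    rw [h1]
    refine add_mem (sub_mem_pow hσ ?_) ih
    have : σ ^ k • x - x = (σ ^ k • x - x - (k : B) * (σ • x - x)) + (k : B) * (σ • x - x) := by ring
    rw [this]
    exact add_mem (Ideal.pow_le_pow_right (Nat.le_succ n) ih) (Ideal.mul_mem_left _ _ hx)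

theorem pow_mem_inertia_succ (hσ : σ ∈ (m ^ 2).inertia G) {n : ℕ} (h : σ ∈ (m ^ n).inertia G) {k : ℕ}
    (hk : (k : B) ∈ m) : σ ^ k ∈ (m ^ (n + 1)).inertia G := by
  intro x
  rw [← sub_add_cancel (σ ^ k • x - x) ((k : B) * (σ • x - x))]
  refine add_mem (pow_smul_sub hσ (h x) k) ?_
  rw [pow_succ']
  exact Ideal.mul_mem_mul hk (h x)

theorem pow_prime_pow_mem_inertia (hσ : σ ∈ (m ^ 2).inertia G) {p : ℕ} (hp : (p : B) ∈ m) (n : ℕ) :
    σ ^ p ^ n ∈ (m ^ (n + 2)).inertia G := by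
  induction n with
  | zero => simpa using hσ
  | succ n ih =>
    rw [pow_succ p n, pow_mul]
    exact pow_mem_inertia_succ (inertia_mono (Ideal.pow_le_pow_right (by omega)) ih) ih hp

theorem eq_one_of_forall_mem [FaithfulSMul G B] (hbot : (⨅ n, m ^ n) = ⊥) (h : ∀ n, σ ∈ (m ^ n).inertia G) :
    σ = 1 := by
  refine eq_of_smul_eq_smul (α := B) fun x => ?_
  rw [one_smul, ← sub_eq_zero]
  have : σ • x - x ∈ ⨅ n, m ^ n := Ideal.mem_iInf.2 fun n => h n x
  rwa [hbot, Ideal.mem_bot] at this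

theorem exists_inertia_pow_eq_bot [FaithfulSMul G B] [Finite G] (hbot : (⨅ n, m ^ n) = ⊥) :
    ∃ N, (m ^ N).inertia G = ⊥ := by
  classical
  have := Fintype.ofFinite G
  have h : ∀ σ : G, ∃ n, σ ∈ (m ^ n).inertia G → σ = 1 := by
    intro σ
    by_cases hσ : σ = 1
    · exact ⟨0, fun _ => hσ⟩
    · by_contra hc
      simp only [not_exists, Classical.not_imp] at hc
      exact hσ (eq_one_of_forall_mem hbot fun n => (hc n).1)
  choose n hn using h
  refine ⟨∑ σ, n σ, (Subgroup.eq_bot_iff_forall _).2 fun σ hσ => hn σ ?_⟩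
  exact inertia_mono (Ideal.pow_le_pow_right
    (Finset.single_le_sum (fun τ _ => Nat.zero_le (n τ)) (Finset.mem_univ σ))) hσ

theorem isPGroup_wild [FaithfulSMul G B] [Finite G] (hbot : (⨅ n, m ^ n) = ⊥) {p : ℕ} (hp : (p : B) ∈ m)
    (H : Subgroup G) (hH : H ≤ (m ^ 2).inertia G) : IsPGroup p H := by
  obtain ⟨N, hN⟩ := exists_inertia_pow_eq_bot (G := G) hbot
  intro σ
  refine ⟨N, Subtype.ext ?_⟩
  have h := inertia_mono (Ideal.pow_le_pow_right (Nat.le_add_right N 2)) (pow_prime_pow_mem_inertia (hH σ.2) hp N)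
  rw [hN, Subgroup.mem_bot] at h
  rw [SubgroupClass.coe_pow]
  exact h

theorem wild_eq_bot [FaithfulSMul G B] [Finite G] [m.IsMaximal] (hbot : (⨅ n, m ^ n) = ⊥)
    (hchar : ∀ k : ℕ, k ≠ 0 → (k : B) ∉ m) : (m ^ 2).inertia G = ⊥ := by
  rw [Subgroup.eq_bot_iff_forall]
  intro σ hσ
  refine eq_one_of_forall_mem hbot fun n => ?_
  induction n with
  | zero => intro x; simp
  | succ n ih =>
    intro x
    have h := pow_smul_sub hσ (ih x) (orderOf σ)
    rw [pow_orderOf_eq_one, one_smul, sub_self, zero_sub, neg_mem_iff] at h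
    obtain ⟨d, i, hi, hd⟩ :=
      (inferInstance : m.IsMaximal).exists_inv (hchar _ (orderOf_pos σ).ne')
    -- `orderOf σ` is invertible modulo `m`
    have e : σ • x - x = d * ((orderOf σ : B) * (σ • x - x)) + i * (σ • x - x) := by
      linear_combination (σ • x - x) * (-hd)
    rw [e]
    refine add_mem (Ideal.mul_mem_left _ _ h) ?_
    rw [pow_succ']
    exact Ideal.mul_mem_mul hi (ih x)

section character

variable {ϖ : B} [m.IsMaximal] (hϖ : ϖ ∈ m) (hm : m ≤ Ideal.span {ϖ} ⊔ m ^ 2) (hϖ' : ϖ ∉ m ^ 2)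

include hm in
theorem exists_coeff {x : B} (hx : x ∈ m) : ∃ c, x - c * ϖ ∈ m ^ 2 := by
  obtain ⟨y, hy, z, hz, rfl⟩ := Submodule.mem_sup.1 (hm hx)
  obtain ⟨c, rfl⟩ := Ideal.mem_span_singleton'.1 hy
  exact ⟨c, by rwa [add_sub_cancel_left]⟩

include hϖ hϖ' in
theorem mem_of_mul_mem {c : B} (h : c * ϖ ∈ m ^ 2) : c ∈ m := by
  by_contra hc
  obtain ⟨d, i, hi, hd⟩ := (inferInstance : m.IsMaximal).exists_inv hc
  refine hϖ' ?_
  have : ϖ = d * (c * ϖ) + i * ϖ := by linear_combination ϖ * (-hd)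
  rw [this, sq]
  exact add_mem (Ideal.mul_mem_left _ _ (sq m ▸ h)) (Ideal.mul_mem_mul hi hϖ)

/-- the coefficient of `σ ϖ` modulo `m²` -/
noncomputable def coeff (σ : m.inertia G) : B := (exists_coeff hm (smul_mem_of_mem_inertia σ.2 hϖ)).choose

theorem coeff_spec (σ : m.inertia G) : (σ : G) • ϖ - coeff hϖ hm σ * ϖ ∈ m ^ 2 :=
  (exists_coeff hm (smul_mem_of_mem_inertia σ.2 hϖ)).choose_spec

include hϖ' in
theorem mk_coeff_eq (σ : m.inertia G) {c : B} (h : (σ : G) • ϖ - c * ϖ ∈ m ^ 2) :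
    Ideal.Quotient.mk m (coeff hϖ hm σ) = Ideal.Quotient.mk m c := by
  rw [Ideal.Quotient.eq]
  refine mem_of_mul_mem hϖ hϖ' ?_
  have := sub_mem h (coeff_spec hϖ hm σ)
  rwa [sub_sub_sub_cancel_left, ← sub_mul] at this

/-- the tame character -/
noncomputable def chi : m.inertia G →* B ⧸ m where
  toFun σ := Ideal.Quotient.mk m (coeff hϖ hm σ)
  map_one' := (mk_coeff_eq hϖ hm hϖ' 1 (c := 1) (by simp)).trans (map_one _)
  map_mul' σ τ := by
    rw [← map_mul]
    refine mk_coeff_eq hϖ hm hϖ' _ ?_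
    have h1 : (σ : G) • ((τ : G) • ϖ - coeff hϖ hm τ * ϖ) ∈ m ^ 2 :=
      smul_mem_pow_of_mem_stabilizer (Ideal.inertia_le_stabilizer _ σ.2) (coeff_spec hϖ hm τ)
    have h2 := Ideal.mul_mem_left _ (coeff hϖ hm τ) (coeff_spec hϖ hm σ)
    have h3 : ((σ : G) • coeff hϖ hm τ - coeff hϖ hm τ) * ((σ : G) • ϖ) ∈ m ^ 2 := by
      rw [sq]; exact Ideal.mul_mem_mul (σ.2 _) (smul_mem_of_mem_inertia σ.2 hϖ)
    have := add_mem (add_mem h1 h2) h3
    convert this using 1
    rw [Subgroup.coe_mul, mul_smul, smul_sub, smul_mul']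
    ring

theorem chi_apply (σ : m.inertia G) : chi hϖ hm hϖ' σ = Ideal.Quotient.mk m (coeff hϖ hm σ) := rfl

variable (A : Type*) [CommRing A] [Algebra A B] [SMulCommClass G A B] (p : Ideal A) [m.LiesOver p]
  [Algebra.IsSeparable (A ⧸ p) (B ⧸ m)] [p.IsMaximal]

include A p hϖ hm in
theorem mem_inertia_sq {σ : G} (hσ : σ ∈ m.inertia G) (h : σ • ϖ - ϖ ∈ m ^ 2) : σ ∈ (m ^ 2).inertia G := by
  -- `σ - 1` maps `m` into `m²`
  have hzero : ∀ y ∈ m, σ • y - y ∈ m ^ 2 := by
    intro y hy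
    obtain ⟨c, hc⟩ := exists_coeff hm hy
    have h1 : σ • (y - c * ϖ) ∈ m ^ 2 :=
      smul_mem_pow_of_mem_stabilizer (Ideal.inertia_le_stabilizer _ hσ) hc
    have h2 : (σ • c - c) * σ • ϖ ∈ m ^ 2 := by
      rw [sq]; exact Ideal.mul_mem_mul (hσ c) (smul_mem_of_mem_inertia hσ hϖ)
    have h3 := add_mem (sub_mem (add_mem h1 h2) hc) (Ideal.mul_mem_left _ c h)
    convert h3 using 1
    rw [smul_sub, smul_mul']
    ring
  let : Field (A ⧸ p) := Ideal.Quotient.field p
  intro x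
  set xb : B ⧸ m := Ideal.Quotient.mk m x
  obtain ⟨F, hF⟩ := Polynomial.map_surjective (Ideal.Quotient.mk p) Ideal.Quotient.mk_surjective
    (minpoly (A ⧸ p) xb)
  have hsep : (minpoly (A ⧸ p) xb).Separable := Algebra.IsSeparable.isSeparable (A ⧸ p) xb
  have hev : ∀ Q : A[X], aeval xb (Q.map (Ideal.Quotient.mk p)) = Ideal.Quotient.mk m (aeval x Q) := by
    intro Q
    rw [show Q.map (Ideal.Quotient.mk p) = Q.map (algebraMap A (A ⧸ p)) from rfl, aeval_map_algebraMap,
      ← Ideal.Quotient.algebraMap_eq]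
    exact aeval_algebraMap_apply (B ⧸ m) x Q
  have hFm : aeval x F ∈ m := by
    rw [← Ideal.Quotient.eq_zero_iff_mem, ← hev, hF, minpoly.aeval]
  have hF' : aeval x (derivative F) ∉ m := by
    rw [← Ideal.Quotient.eq_zero_iff_mem, ← hev, ← derivative_map, hF]
    let : Field (B ⧸ m) := Ideal.Quotient.field m
    exact hsep.aeval_derivative_ne_zero (minpoly.aeval _ _)
  have hcomm : σ • aeval x F = aeval (σ • x) F :=
    (aeval_algHom_apply (MulSemiringAction.toAlgHom A B σ) x F).symm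
  obtain ⟨w, hw⟩ := Polynomial.binomExpansion (F.map (algebraMap A B)) x (σ • x - x)
  rw [add_sub_cancel, derivative_map, eval_map_algebraMap, eval_map_algebraMap, eval_map_algebraMap, ← hcomm] at hw
  have hmul : aeval x (derivative F) * (σ • x - x) ∈ m ^ 2 := by
    have := sub_mem (hzero _ hFm)
      (Ideal.mul_mem_left _ w (Ideal.pow_mem_pow (hσ x) 2))
    convert this using 1
    rw [hw]; ring
  obtain ⟨d, i, hi, hd⟩ := (inferInstance : m.IsMaximal).exists_inv hF'
  have e : σ • x - x = d * (aeval x (derivative F) * (σ • x - x)) + i * (σ • x - x) := by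
    linear_combination (σ • x - x) * (-hd)
  rw [e]
  refine add_mem (Ideal.mul_mem_left _ _ hmul) ?_
  rw [sq]
  exact Ideal.mul_mem_mul hi (hσ x)

include A p in
theorem ker_chi : (chi hϖ hm hϖ').ker = ((m ^ 2).inertia G).subgroupOf (m.inertia G) := by
  ext σ
  rw [MonoidHom.mem_ker, chi_apply, Subgroup.mem_subgroupOf]
  constructor
  · intro h
    rw [← map_one (Ideal.Quotient.mk m), Ideal.Quotient.eq] at h
    refine mem_inertia_sq hϖ hm A p σ.2 ?_
    have h1 : (coeff hϖ hm σ - 1) * ϖ ∈ m ^ 2 := by rw [sq]; exact Ideal.mul_mem_mul h hϖ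
    have := add_mem (coeff_spec hϖ hm σ) h1
    convert this using 1
    ring
  · intro h
    rw [mk_coeff_eq hϖ hm hϖ' σ (c := 1) (by simpa using h ϖ), map_one]

end character

end Groth.Agent.Inertia7
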